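import Mathlib.AlgebraicGeometry.Morphisms.Flat
import Mathlib.AlgebraicGeometry.Morphisms.Finite
import Mathlib.RingTheory.Norm.Basic
import Mathlib.RingTheory.Localization.Free
import Mathlib.RingTheory.Localization.Module
import Mathlib.RingTheory.TensorProduct.IsBaseChangeFree
import Mathlib.AlgebraicGeometry.Morphisms.FinitePresentation
import Mathlib.AlgebraicGeometry.Morphisms.FlatRank

/-!
# The norm of global functions along a finite locally free morphism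
-/

set_option autoImplicit false
set_option linter.style.haveILetI false

universe u

open CategoryTheory Limits AlgebraicGeometry TopologicalSpace

noncomputable section

namespace Groth.Agent.NormShf

variable {T' T : Scheme.{u}} (g : T' ⟶ T)

/-- an affine open over which the functions upstairs have a finite basis -/
def IsFree (W : T.Opens) : Prop :=
  IsAffineOpen W ∧ (letI := (g.app W).hom.toAlgebra; ∃ n : ℕ, Nonempty (Module.Basis (Fin n) Γ(T, W) Γ(T', g ⁻¹ᵁ W)))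

/-- the determinant of multiplication -/
def νP (W : T.Opens) : Γ(T', g ⁻¹ᵁ W) →* Γ(T, W) :=
  letI := (g.app W).hom.toAlgebra
  Algebra.norm Γ(T, W)

/-- norms commute with a change of base -/
theorem norm_baseChange {A₁ A₂ B₁ B₂ : Type u} [CommRing A₁] [CommRing A₂] [CommRing B₁] [CommRing B₂]
    [Algebra A₁ A₂] [Algebra A₁ B₁] [Algebra A₂ B₂] [Algebra B₁ B₂] [Algebra A₁ B₂]
    [IsScalarTower A₁ A₂ B₂] [IsScalarTower A₁ B₁ B₂] [h : Algebra.IsPushout A₁ A₂ B₁ B₂]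
    {n : ℕ} (b : Module.Basis (Fin n) A₁ B₁) :
    Nonempty (Module.Basis (Fin n) A₂ B₂) ∧
      ∀ x : B₁, Algebra.norm A₂ (algebraMap B₁ B₂ x) = algebraMap A₁ A₂ (Algebra.norm A₁ x) := by
  classical
  let b' := h.out.basis b
  refine ⟨⟨b'⟩, fun x => ?_⟩
  rw [Algebra.norm_eq_matrix_det b, Algebra.norm_eq_matrix_det b', RingHom.map_det]
  congr 1
  ext i j
  rw [RingHom.mapMatrix_apply, Matrix.map_apply, Algebra.leftMulMatrix_eq_repr_mul,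
    Algebra.leftMulMatrix_eq_repr_mul, ← h.out.basis_repr_comp_apply b, IsBaseChange.basis_apply]
  simp [b']

section BaseChange

variable {g} {T₂' T₂ : Scheme.{u}} {h' : T₂' ⟶ T'} {g₂ : T₂' ⟶ T₂} {h : T₂ ⟶ T}

theorem isFree_and_νP [IsAffineHom g] (H : IsPullback h' g₂ g h) {W : T.Opens} (hW : IsFree g W)
    {W₂ : T₂.Opens} (hW₂ : IsAffineOpen W₂) (e : W₂ ≤ h ⁻¹ᵁ W) (e' : g₂ ⁻¹ᵁ W₂ ≤ h' ⁻¹ᵁ (g ⁻¹ᵁ W)) :
    IsFree g₂ W₂ ∧ ∀ a, νP g₂ W₂ (h'.appLE (g ⁻¹ᵁ W) (g₂ ⁻¹ᵁ W₂) e' a) = h.appLE W W₂ e (νP g W a) := by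
  obtain ⟨hWa, n, ⟨b⟩⟩ := hW
  have hUY : g₂ ⁻¹ᵁ W₂ = h' ⁻¹ᵁ (g ⁻¹ᵁ W) ⊓ g₂ ⁻¹ᵁ W₂ := (inf_eq_right.2 e').symm
  have hiso := isIso_pushoutSection_of_isAffineOpen H e (le_refl (g ⁻¹ᵁ W)) hUY hWa hW₂ (hWa.preimage g)
  have hP := ((isIso_pushoutSection_iff H e (le_refl (g ⁻¹ᵁ W)) hUY).mp hiso).flip
  rw [← g.app_eq_appLE, ← g₂.app_eq_appLE] at hP
  letI : Algebra Γ(T, W) Γ(T', g ⁻¹ᵁ W) := (g.app W).hom.toAlgebra
  letI : Algebra Γ(T, W) Γ(T₂, W₂) := (h.appLE W W₂ e).hom.toAlgebra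
  letI : Algebra Γ(T', g ⁻¹ᵁ W) Γ(T₂', g₂ ⁻¹ᵁ W₂) := (h'.appLE (g ⁻¹ᵁ W) (g₂ ⁻¹ᵁ W₂) e').hom.toAlgebra
  letI : Algebra Γ(T₂, W₂) Γ(T₂', g₂ ⁻¹ᵁ W₂) := (g₂.app W₂).hom.toAlgebra
  letI : Algebra Γ(T, W) Γ(T₂', g₂ ⁻¹ᵁ W₂) := (h.appLE W W₂ e ≫ g₂.app W₂).hom.toAlgebra
  haveI : IsScalarTower Γ(T, W) Γ(T₂, W₂) Γ(T₂', g₂ ⁻¹ᵁ W₂) := IsScalarTower.of_algebraMap_eq' rfl
  haveI : IsScalarTower Γ(T, W) Γ(T', g ⁻¹ᵁ W) Γ(T₂', g₂ ⁻¹ᵁ W₂) :=
    IsScalarTower.of_algebraMap_eq' (congrArg CommRingCat.Hom.hom hP.w)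
  haveI : Algebra.IsPushout Γ(T, W) Γ(T₂, W₂) Γ(T', g ⁻¹ᵁ W) Γ(T₂', g₂ ⁻¹ᵁ W₂) :=
    CommRingCat.isPushout_iff_isPushout.mp hP
  obtain ⟨hb, hn⟩ := norm_baseChange (A₂ := Γ(T₂, W₂)) (B₂ := Γ(T₂', g₂ ⁻¹ᵁ W₂)) b
  exact ⟨⟨hW₂, n, hb⟩, hn⟩

end BaseChange

/-- restriction -/
theorem isFree_and_νP_res [IsAffineHom g] {W : T.Opens} (hW : IsFree g W) {W' : T.Opens} (hW' : IsAffineOpen W')
    (e : W' ≤ W) : IsFree g W' ∧ ∀ a, νP g W' (T'.presheaf.map (homOfLE (g.preimage_mono e)).op a) =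
      T.presheaf.map (homOfLE e).op (νP g W a) := by
  have H : IsPullback (𝟙 T') g g (𝟙 T) := IsPullback.of_horiz_isIso ⟨by simp⟩
  obtain ⟨h1, h2⟩ := isFree_and_νP H hW hW' (e := e) (e' := g.preimage_mono e)
  exact ⟨h1, fun a => h2 a⟩

theorem exists_isFree [IsFinite g] [Flat g] [LocallyOfFinitePresentation g] {U : T.Opens} {y : T} (hy : y ∈ U) :
    ∃ V : T.Opens, y ∈ V ∧ V ≤ U ∧ IsFree g V := by
  obtain ⟨_, ⟨V, hV, rfl⟩, hyV, hVU⟩ := T.isBasis_affineOpens.exists_subset_of_mem_open hy U.2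
  have hfV : IsAffineOpen (g ⁻¹ᵁ V) := hV.preimage g
  letI iAB : Algebra Γ(T, V) Γ(T', g ⁻¹ᵁ V) := (g.app V).hom.toAlgebra
  haveI : Module.Finite Γ(T, V) Γ(T', g ⁻¹ᵁ V) := g.finite_app V hV
  have happ : g.appLE V (g ⁻¹ᵁ V) le_rfl = g.app V := (g.app_eq_appLE).symm
  haveI : Module.Flat Γ(T, V) Γ(T', g ⁻¹ᵁ V) := by
    have := g.flat_appLE hV hfV le_rfl
    rw [happ] at this
    exact this
  haveI : Algebra.FinitePresentation Γ(T, V) Γ(T', g ⁻¹ᵁ V) := by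
    have := HasRingHomProperty.appLE @LocallyOfFinitePresentation g ‹_› ⟨V, hV⟩ ⟨_, hfV⟩ le_rfl
    rw [happ] at this
    exact this
  haveI : Module.FinitePresentation Γ(T, V) Γ(T', g ⁻¹ᵁ V) :=
    Module.FinitePresentation.of_finite_of_finitePresentation _ _
  let P := hV.primeIdealOf ⟨y, hyV⟩
  let S := P.asIdeal.primeCompl
  haveI : Module.Free (Localization S) (LocalizedModule S Γ(T', g ⁻¹ᵁ V)) :=
    Module.free_of_flat_of_isLocalRing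
  obtain ⟨r, hrS, hfree, -⟩ := Module.FinitePresentation.exists_free_localizedModule_powers S
    (LocalizedModule.mkLinearMap S Γ(T', g ⁻¹ᵁ V)) (Localization S)
  let W := T.basicOpen r
  have hyW : y ∈ W := by
    have hfs : hV.fromSpec P = y := hV.fromSpec_primeIdealOf ⟨y, hyV⟩
    rw [← hfs]
    show P ∈ hV.fromSpec ⁻¹ᵁ T.basicOpen r
    rw [hV.fromSpec_preimage_basicOpen]
    exact hrS
  have hW : IsAffineOpen W := hV.basicOpen r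
  have hWV : W ≤ V := T.basicOpen_le r
  letI iA'B' : Algebra Γ(T, W) Γ(T', g ⁻¹ᵁ W) := (g.app W).hom.toAlgebra
  letI iBB' : Algebra Γ(T', g ⁻¹ᵁ V) Γ(T', g ⁻¹ᵁ W) :=
    (T'.presheaf.map (homOfLE (g.preimage_mono hWV)).op).hom.toAlgebra
  letI iAB' : Algebra Γ(T, V) Γ(T', g ⁻¹ᵁ W) :=
    (g.app V ≫ T'.presheaf.map (homOfLE (g.preimage_mono hWV)).op).hom.toAlgebra
  haveI : IsScalarTower Γ(T, V) Γ(T', g ⁻¹ᵁ V) Γ(T', g ⁻¹ᵁ W) := IsScalarTower.of_algebraMap_eq' rfl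
  haveI : IsScalarTower Γ(T, V) Γ(T, W) Γ(T', g ⁻¹ᵁ W) := IsScalarTower.of_algebraMap_eq' (by
    have e := g.naturality (homOfLE hWV).op
    exact (congrArg CommRingCat.Hom.hom e).symm)
  haveI := hV.isLocalization_basicOpen r
  haveI : IsLocalization (Algebra.algebraMapSubmonoid Γ(T', g ⁻¹ᵁ V) (Submonoid.powers r)) Γ(T', g ⁻¹ᵁ W) := by
    have e : Algebra.algebraMapSubmonoid Γ(T', g ⁻¹ᵁ V) (Submonoid.powers r) = Submonoid.powers (g.app V r) :=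
      Submonoid.map_powers (algebraMap Γ(T, V) Γ(T', g ⁻¹ᵁ V)) r
    rw [e]
    exact hfV.isLocalization_of_eq_basicOpen _ (homOfLE (g.preimage_mono hWV)) (Scheme.preimage_basicOpen g r)
  let φ : Γ(T', g ⁻¹ᵁ V) →ₗ[Γ(T, V)] Γ(T', g ⁻¹ᵁ W) := (IsScalarTower.toAlgHom _ _ _).toLinearMap
  haveI : IsLocalizedModule (Submonoid.powers r) φ := isLocalizedModule_iff_isLocalization.2 inferInstance
  let L := Localization (Submonoid.powers r)
  let ρ : L ≃ₐ[Γ(T, V)] Γ(T, W) := IsLocalization.algEquiv (Submonoid.powers r) L Γ(T, W)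
  letI := RingHomInvPair.of_ringEquiv ρ.toRingEquiv
  letI := RingHomInvPair.of_ringEquiv ρ.toRingEquiv.symm
  haveI : Module.Free Γ(T, W) Γ(T', g ⁻¹ᵁ W) := by
    let e₀ := IsLocalizedModule.iso (Submonoid.powers r) φ
    have hsm : ∀ (c : L) (x : LocalizedModule (Submonoid.powers r) Γ(T', g ⁻¹ᵁ V)), e₀ (c • x) = ρ c • e₀ x :=
      fun c x => by
      obtain ⟨⟨a, t⟩, rfl⟩ := IsLocalization.mk'_surjective (Submonoid.powers r) c
      refine ((Module.End.isUnit_iff _).1 (IsLocalizedModule.map_units φ t)).1 ?_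
      show (t : Γ(T, V)) • e₀ (IsLocalization.mk' L a t • x) =
        (t : Γ(T, V)) • (ρ (IsLocalization.mk' L a t) • e₀ x)
      rw [← map_smul e₀, ← smul_assoc, ← smul_assoc, ← map_smul ρ]
      rw [show (t : Γ(T, V)) • IsLocalization.mk' L a t = algebraMap Γ(T, V) L a by
        rw [Algebra.smul_def, mul_comm, IsLocalization.mk'_spec], AlgEquiv.commutes, algebraMap_smul,
        algebraMap_smul, map_smul]
    exact Module.Free.of_equiv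
      ({ e₀.toAddEquiv with map_smul' := hsm } :
        LocalizedModule (Submonoid.powers r) Γ(T', g ⁻¹ᵁ V) ≃ₛₗ[(ρ.toRingEquiv : L →+* Γ(T, W))] Γ(T', g ⁻¹ᵁ W))
  haveI : Module.Finite Γ(T, W) Γ(T', g ⁻¹ᵁ W) := g.finite_app W hW
  exact ⟨W, hyW, hWV.trans hVU, hW, _,
    ⟨(Module.Free.chooseBasis Γ(T, W) Γ(T', g ⁻¹ᵁ W)).reindex (Fintype.equivFin _)⟩⟩

/-- the defining property of the norm of a global function -/
def IsN (a : Γ(T', ⊤)) (t : Γ(T, ⊤)) : Prop :=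
  ∀ W : T.Opens, IsFree g W → T.presheaf.map (homOfLE (le_top : W ≤ ⊤)).op t =
    νP g W (T'.presheaf.map (homOfLE (le_top : g ⁻¹ᵁ W ≤ ⊤)).op a)

theorem res_res {Z : Scheme.{u}} {A B C : Z.Opens} (h₁ : B ≤ A) (h₂ : C ≤ B) (x : Γ(Z, A)) :
    Z.presheaf.map (homOfLE h₂).op (Z.presheaf.map (homOfLE h₁).op x) =
      Z.presheaf.map (homOfLE (h₂.trans h₁)).op x := by
  rw [← ConcreteCategory.comp_apply, ← Functor.map_comp, ← op_comp]
  rfl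

theorem existsUnique_isN [IsFinite g] [Flat g] [LocallyOfFinitePresentation g] (a : Γ(T', ⊤)) :
    ∃! t : Γ(T, ⊤), IsN g a t := by
  obtain ⟨t, ht, huniq⟩ := T.sheaf.existsUnique_gluing'
    (fun W : {W : T.Opens // IsFree g W} => W.1) ⊤ (fun W => homOfLE le_top)
    (fun x _ => by
      obtain ⟨W, hxW, -, hW⟩ := exists_isFree g (U := ⊤) (y := x) trivial
      exact Opens.mem_iSup.mpr ⟨⟨W, hW⟩, hxW⟩)
    (fun W => νP g W.1 (T'.presheaf.map (homOfLE (le_top : g ⁻¹ᵁ W.1 ≤ ⊤)).op a))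
    (fun W₁ W₂ => by
      let R := {W : T.Opens // IsFree g W ∧ W ≤ W₁.1 ⊓ W₂.1}
      refine T.sheaf.eq_of_locally_eq' (fun W : R => W.1) (W₁.1 ⊓ W₂.1) (fun W => homOfLE W.2.2)
        (fun y hy => ?_) _ _ fun W => ?_
      · obtain ⟨W, hyW, hle, hW⟩ := exists_isFree g hy
        exact Opens.mem_iSup.mpr ⟨⟨W, hW, hle⟩, hyW⟩
      · show T.presheaf.map (homOfLE W.2.2).op (T.presheaf.map (homOfLE inf_le_left).op _) =
          T.presheaf.map (homOfLE W.2.2).op (T.presheaf.map (homOfLE inf_le_right).op _)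
        rw [res_res, res_res, ← (isFree_and_νP_res g W₁.2 W.2.1.1 (W.2.2.trans inf_le_left)).2,
          ← (isFree_and_νP_res g W₂.2 W.2.1.1 (W.2.2.trans inf_le_right)).2, res_res, res_res])
  exact ⟨t, fun W hW => ht ⟨W, hW⟩, fun t' ht' => huniq t' fun W => ht' W.1 W.2⟩

variable [IsFinite g] [Flat g] [LocallyOfFinitePresentation g]

/-- the norm of global functions -/
def ν : Γ(T', ⊤) →* Γ(T, ⊤) where
  toFun a := (existsUnique_isN g a).choose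
  map_one' := ((existsUnique_isN g 1).choose_spec.2 1 fun W _ => by simp only [map_one]).symm
  map_mul' a b := ((existsUnique_isN g (a * b)).choose_spec.2 _ fun W hW => by
    simp only [map_mul]
    rw [(existsUnique_isN g a).choose_spec.1 W hW, (existsUnique_isN g b).choose_spec.1 W hW]).symm

theorem ν_spec (a : Γ(T', ⊤)) : IsN g a (ν g a) := (existsUnique_isN g a).choose_spec.1

theorem eq_ν {a : Γ(T', ⊤)} {t : Γ(T, ⊤)} (h : IsN g a t) : t = ν g a :=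
  (existsUnique_isN g a).choose_spec.2 t h

theorem ν_eq_norm [IsAffine T] [alg : Algebra Γ(T, ⊤) Γ(T', ⊤)] [Module.Finite Γ(T, ⊤) Γ(T', ⊤)]
    [Module.Free Γ(T, ⊤) Γ(T', ⊤)] (halg : ∀ x, algebraMap Γ(T, ⊤) Γ(T', ⊤) x = g.appTop x) (a : Γ(T', ⊤)) :
    ν g a = Algebra.norm Γ(T, ⊤) a := by
  have e : alg = g.appTop.hom.toAlgebra := Algebra.algebra_ext _ _ halg
  subst e
  letI := g.appTop.hom.toAlgebra
  have hF : IsFree g ⊤ :=
    ⟨isAffineOpen_top T, _, ⟨(Module.Free.chooseBasis Γ(T, ⊤) Γ(T', ⊤)).reindex (Fintype.equivFin _)⟩⟩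
  have h := ν_spec g a ⊤ hF
  simp [νP] at h
  exact h

variable {g} {T₂' T₂ : Scheme.{u}} {h' : T₂' ⟶ T'} {g₂ : T₂' ⟶ T₂} {h : T₂ ⟶ T}
  [IsFinite g₂] [Flat g₂] [LocallyOfFinitePresentation g₂]

theorem ν_comp (H : IsPullback h' g₂ g h) (a : Γ(T', ⊤)) : ν g₂ (h'.appTop a) = h.appTop (ν g a) := by
  refine (eq_ν g₂ fun W₂ hW₂ => ?_).symm
  let R := {W : T₂.Opens // IsAffineOpen W ∧ W ≤ W₂ ∧ ∃ V : T.Opens, IsFree g V ∧ W ≤ h ⁻¹ᵁ V}
  refine T₂.sheaf.eq_of_locally_eq' (fun W : R => W.1) W₂ (fun W => homOfLE W.2.2.1) (fun y hy => ?_) _ _ fun W => ?_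
  · obtain ⟨V, hyV, -, hV⟩ := exists_isFree g (U := ⊤) (y := h.base y) trivial
    obtain ⟨_, ⟨W, hW, rfl⟩, hyW, hWle⟩ :=
      T₂.isBasis_affineOpens.exists_subset_of_mem_open (show y ∈ W₂ ⊓ h ⁻¹ᵁ V from ⟨hy, hyV⟩) (W₂ ⊓ h ⁻¹ᵁ V).2
    exact Opens.mem_iSup.mpr
      ⟨⟨W, hW, fun z hz => (hWle hz).1, V, hV, fun z hz => (hWle hz).2⟩, hyW⟩
  · obtain ⟨W, hW, hWW₂, V, hV, hWV⟩ := W
    have e' : g₂ ⁻¹ᵁ W ≤ h' ⁻¹ᵁ (g ⁻¹ᵁ V) := by
      rw [← Scheme.Hom.comp_preimage, H.w, Scheme.Hom.comp_preimage]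
      exact g₂.preimage_mono hWV
    show T₂.presheaf.map (homOfLE hWW₂).op (T₂.presheaf.map (homOfLE le_top).op _) =
      T₂.presheaf.map (homOfLE hWW₂).op _
    rw [res_res, ← (isFree_and_νP_res g₂ hW₂ hW hWW₂).2, res_res]
    change h.appLE ⊤ W le_top (ν g a) = νP g₂ W (h'.appLE ⊤ (g₂ ⁻¹ᵁ W) le_top a)
    rw [← h.map_appLE (U := V) hWV (homOfLE le_top).op, ← h'.map_appLE (U := g ⁻¹ᵁ V) e' (homOfLE le_top).op]
    show h.appLE V W hWV (T.presheaf.map (homOfLE (le_top : V ≤ ⊤)).op (ν g a)) = _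
    rw [ν_spec g a V hV, ← (isFree_and_νP H hV hW hWV e').2]
    rfl

end Groth.Agent.NormShf
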