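import Groth.Agent.NormShf.Local
import Groth.Prelude.Def_CGrpSh3
import Groth.Prelude.Def_GmPts

/-!
# The norm map of a finite locally free morphism on the big fppf site
-/

set_option autoImplicit false
set_option linter.style.haveILetI false

universe u

open CategoryTheory Limits AlgebraicGeometry Opposite MonoidalCategory CartesianMonoidalCategory MonObj

noncomputable section

namespace Groth.Agent.NormShf

variable {X X' : Scheme.{u}} (f : X' ⟶ X) [IsFinite f] [Flat f] [LocallyOfFinitePresentation f]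

/-- the projection -/
abbrev pr (T : Over X) : ((Over.pullback f).obj T).left ⟶ T.left := pullback.fst T.hom f

instance (T : Over X) : IsFinite (pr f T) := inferInstanceAs (IsFinite (pullback.fst T.hom f))
instance (T : Over X) : Flat (pr f T) := inferInstanceAs (Flat (pullback.fst T.hom f))
instance (T : Over X) : LocallyOfFinitePresentation (pr f T) :=
  inferInstanceAs (LocallyOfFinitePresentation (pullback.fst T.hom f))

theorem isPullback_map {T₂ T₁ : Over X} (j : T₂ ⟶ T₁) :
    IsPullback ((Over.pullback f).map j).left (pr f T₂) (pr f T₁) j.left := by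
  have e : ((Over.pullback f).map j).left ≫ pr f T₁ = pr f T₂ ≫ j.left := pullback.lift_fst _ _ _
  refine IsPullback.of_right ?_ e (IsPullback.of_hasPullback T₁.hom f).flip
  rw [show ((Over.pullback f).map j).left ≫ pullback.snd T₁.hom f = pullback.snd T₂.hom f from
    pullback.lift_snd _ _ _, Over.w j]
  exact (IsPullback.of_hasPullback T₂.hom f).flip

/-- the norm of a point -/
def nPt (T : Over X) (t : (Over.pullback f).obj T ⟶ Red.Gm X') : T ⟶ Red.Gm X :=
  GmPts.ptOfUnit (Units.map (ν (pr f T)) (GmPts.unitOfPt t))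

theorem gmFn_nPt (T : Over X) (t : (Over.pullback f).obj T ⟶ Red.Gm X') :
    Red.gmFn (nPt f T t) = ν (pr f T) (Red.gmFn t) := by
  rw [← GmPts.val_unitOfPt, nPt, GmPts.unitOfPt_ptOfUnit]
  rfl

theorem pt_ext {S : Scheme.{u}} {T : Over S} {a b : T ⟶ Red.Gm S} (h : Red.gmFn a = Red.gmFn b) : a = b := by
  rw [← GmPts.ptOfUnit_unitOfPt a, ← GmPts.ptOfUnit_unitOfPt b]
  exact congrArg _ (Units.ext h)

theorem gmFn_comp {S : Scheme.{u}} {T' T : Over S} (p : T' ⟶ T) (t : T ⟶ Red.Gm S) :
    Red.gmFn (p ≫ t) = p.left.appTop (Red.gmFn t) := by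
  rw [← GmPts.val_unitOfPt, GmPts.unitOfPt_comp]
  rfl

theorem gmFn_mul' {S : Scheme.{u}} {T : Over S} (a b : T ⟶ Red.Gm S) :
    Red.gmFn (a * b) = Red.gmFn a * Red.gmFn b := by
  rw [← GmPts.val_unitOfPt, GmPts.unitOfPt_mul]
  rfl

/-- the norm map -/
def normHom : CGrpSh3.pushGm Scheme.fppfPrecoverage f ⟶ CGrpSh2.Gm Scheme.fppfPrecoverage X :=
  ⟨{ app := fun T => AddCommGrpCat.ofHom
      { toFun := fun x => ULift.up (Additive.ofMul (nPt f (unop T) x.down.toMul))
        map_zero' := by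
          apply ULift.ext
          refine congrArg Additive.ofMul (pt_ext (a := nPt f (unop T) 1) (b := 1) ?_)
          rw [gmFn_nPt, ← GmPts.val_unitOfPt, ← GmPts.val_unitOfPt, GmPts.unitOfPt_one, GmPts.unitOfPt_one,
            Units.val_one, Units.val_one, map_one]
        map_add' := fun x y => by
          apply ULift.ext
          refine congrArg Additive.ofMul
            (pt_ext (a := nPt f (unop T) (x.down.toMul * y.down.toMul))
              (b := nPt f (unop T) x.down.toMul * nPt f (unop T) y.down.toMul) ?_)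
          rw [gmFn_mul', gmFn_nPt, gmFn_nPt, gmFn_nPt, gmFn_mul', map_mul] }
     naturality := fun T T' j => AddCommGrpCat.ext fun x => by
      refine ULift.ext _ _ (congrArg Additive.ofMul
        (pt_ext (a := nPt f (unop T') ((Over.pullback f).map j.unop ≫ x.down.toMul))
          (b := j.unop ≫ nPt f (unop T) x.down.toMul) ?_))
      rw [gmFn_comp, gmFn_nPt, gmFn_nPt, gmFn_comp]
      exact ν_comp (isPullback_map f j.unop) _ }⟩

theorem isNormMap_normHom : CGrpSh3.IsNormMap Scheme.fppfPrecoverage f (normHom f) := by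
  intro T _ _ _ _ halg t
  show Red.gmFn (nPt f T t) = _
  rw [gmFn_nPt]
  exact ν_eq_norm (pr f T) halg _

theorem gmFn_normPt {N : CGrpSh3.pushGm Scheme.fppfPrecoverage f ⟶ CGrpSh2.Gm Scheme.fppfPrecoverage X}
    (hN : CGrpSh3.IsNormMap Scheme.fppfPrecoverage f N) (T : Over X)
    (t : (Over.pullback f).obj T ⟶ Red.Gm X') :
    Red.gmFn (CGrpSh3.normPt _ f N T t) = ν (pr f T) (Red.gmFn t) := by
  refine eq_ν _ fun W hW => ?_
  let T₂ : Over X := Over.mk (W.ι ≫ T.hom)
  let j : T₂ ⟶ T := Over.homMk W.ι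
  haveI : IsAffine T₂.left := hW.1
  have e : (⊤ : T₂.left.Opens) ≤ j.left ⁻¹ᵁ W := W.ι_preimage_self.ge
  have H := isPullback_map f j
  have e' : pr f T₂ ⁻¹ᵁ ⊤ ≤ ((Over.pullback f).map j).left ⁻¹ᵁ (pr f T ⁻¹ᵁ W) := by
    rw [← Scheme.Hom.comp_preimage, H.w, Scheme.Hom.comp_preimage]
    exact (pr f T₂).preimage_mono e
  obtain ⟨hF, hν⟩ := isFree_and_νP H hW (isAffineOpen_top T₂.left) e e'
  obtain ⟨-, n, ⟨b⟩⟩ := hF
  letI : Algebra Γ(T₂.left, ⊤) Γ(((Over.pullback f).obj T₂).left, ⊤) := (pr f T₂).appTop.hom.toAlgebra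
  haveI : Module.Free Γ(T₂.left, ⊤) Γ(((Over.pullback f).obj T₂).left, ⊤) := Module.Free.of_basis b
  haveI : Module.Finite Γ(T₂.left, ⊤) Γ(((Over.pullback f).obj T₂).left, ⊤) := Module.Finite.of_basis b
  have h1 := hN T₂ (fun _ => rfl) ((Over.pullback f).map j ≫ t)
  have h2 : CGrpSh3.normPt _ f N T₂ ((Over.pullback f).map j ≫ t) = j ≫ CGrpSh3.normPt _ f N T t :=
    congrArg (fun y => y.down.toMul) (ConcreteCategory.congr_hom (N.hom.naturality j.op)
      (ULift.up (Additive.ofMul t)))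
  rw [h2, gmFn_comp, gmFn_comp] at h1
  have h3 := hν (((Over.pullback f).obj T).left.presheaf.map (homOfLE (le_top : pr f T ⁻¹ᵁ W ≤ ⊤)).op (Red.gmFn t))
  rw [← ConcreteCategory.comp_apply, Scheme.Hom.map_appLE] at h3
  haveI : IsIso (j.left.appLE W ⊤ e) := by
    show IsIso (W.ι.appLE W ⊤ e)
    rw [Scheme.Opens.ι_appLE]
    have : ∀ (A : T.left.Opens) (hA : A ≤ W), A = W → IsIso (T.left.presheaf.map (homOfLE hA).op) := by
      rintro A hA rfl
      exact inferInstanceAs (IsIso (T.left.presheaf.map (𝟙 _)))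
    exact this _ _ W.ι_image_top
  apply (ConcreteCategory.bijective_of_isIso (j.left.appLE W ⊤ e)).1
  rw [← ConcreteCategory.comp_apply, Scheme.Hom.map_appLE]
  refine Eq.trans ?_ h3
  simp only [Scheme.Hom.appTop, Scheme.Hom.app_eq_appLE] at h1
  exact h1

theorem isNormMap_unique {N N' : CGrpSh3.pushGm Scheme.fppfPrecoverage f ⟶ CGrpSh2.Gm Scheme.fppfPrecoverage X}
    (hN : CGrpSh3.IsNormMap Scheme.fppfPrecoverage f N) (hN' : CGrpSh3.IsNormMap Scheme.fppfPrecoverage f N') :
    N = N' := by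
  refine Sheaf.hom_ext (NatTrans.ext (funext fun T => AddCommGrpCat.ext fun x => ULift.ext _ _ ?_))
  have h := pt_ext ((gmFn_normPt f hN (unop T) x.down.toMul).trans (gmFn_normPt f hN' (unop T) x.down.toMul).symm)
  exact congrArg Additive.ofMul h

end Groth.Agent.NormShf
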