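import Groth.Agent.NormShf.Local
import Groth.Agent.EtPBC.GmLoc
import Groth.Agent.EtAcycX.Edge
import Groth.Agent.EtIntegral.Push
import Groth.Prelude.Def_EtLim
import Groth.Prelude.Def_Mor2
import Mathlib

/-!
# The transfer on units along a finite locally free morphism
-/

set_option autoImplicit false
set_option backward.isDefEq.respectTransparency false
set_option backward.isDefEq.respectTransparency.types false
set_option linter.auxLemma false
set_option linter.style.haveILetI false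

universe u

open CategoryTheory CategoryTheory.Limits CategoryTheory.Abelian AlgebraicGeometry Opposite TopologicalSpace
open Groth.Agent.EtFLC (res res_res res_id)
open Groth.Agent.EtPBC (gmVal gmVal_injective)

noncomputable section

namespace Groth.Agent.NormShf

attribute [local instance 100000] EtCoh.H._proof_1 EtMV.hext
attribute [local instance 200000] EtMV.hextAb

section Degree

variable {T' T : Scheme.{u}} (g : T' ⟶ T) [IsFinite g] [Flat g]

/-- the rank of a free piece is the degree -/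
theorem finrank_eq_of_isFree {W : T.Opens} (hW : IsAffineOpen W)
    (h : letI := (g.app W).hom.toAlgebra; Module.Free Γ(T, W) Γ(T', g ⁻¹ᵁ W)) (x : T) (hx : x ∈ W) :
    (letI := (g.app W).hom.toAlgebra; Module.finrank Γ(T, W) Γ(T', g ⁻¹ᵁ W)) = g.finrank x := by
  haveI : Nonempty W := ⟨⟨x, hx⟩⟩
  haveI : Nontrivial Γ(T, W) := Scheme.component_nontrivial T W
  let φ := g.app W
  letI : Algebra Γ(T, W) Γ(T', g ⁻¹ᵁ W) := φ.hom.toAlgebra
  haveI : Module.Free Γ(T, W) Γ(T', g ⁻¹ᵁ W) := h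
  haveI : Module.Finite Γ(T, W) Γ(T', g ⁻¹ᵁ W) := g.finite_app W hW
  have hf' : IsAffineOpen (g ⁻¹ᵁ W) := hW.preimage g
  haveI : IsFinite (g ∣_ W) := MorphismProperty.of_isPullback (isPullback_morphismRestrict g W).flip ‹IsFinite g›
  haveI : Flat (g ∣_ W) := MorphismProperty.of_isPullback (isPullback_morphismRestrict g W).flip ‹Flat g›
  have H : IsPullback hf'.isoSpec.inv (Spec.map φ) (g ∣_ W) hW.isoSpec.inv :=
    IsPullback.of_horiz_isIso ⟨by
      rw [← cancel_mono W.ι, Category.assoc, Category.assoc, morphismRestrict_ι,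
        IsAffineOpen.isoSpec_inv_ι, ← Category.assoc, IsAffineOpen.isoSpec_inv_ι,
        ← IsAffineOpen.SpecMap_appLE_fromSpec g hW hf' le_rfl, ← Scheme.Hom.app_eq_appLE]⟩
  let p : Spec Γ(T, W) := hW.isoSpec.hom ⟨x, hx⟩
  have h1 : Scheme.Hom.finrank (Spec.map φ) p = g.finrank x := by
    rw [Scheme.Hom.finrank_of_isPullback _ _ _ _ H p,
      Scheme.Hom.finrank_of_isPullback _ _ _ _ (isPullback_morphismRestrict g W).flip]
    congr 1
    show W.ι (hW.isoSpec.inv (hW.isoSpec.hom ⟨x, hx⟩)) = x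
    rw [← Scheme.Hom.comp_apply hW.isoSpec.hom hW.isoSpec.inv, Iso.hom_inv_id]
    rfl
  rw [← h1, show Spec.map φ = Spec.map (CommRingCat.ofHom (algebraMap Γ(T, W) Γ(T', g ⁻¹ᵁ W))) from rfl,
    Scheme.Hom.finrank_SpecMap_algebraMap, Module.rankAtStalk_eq_finrank_of_free]
  rfl

/-- the norm of a function from below is its power -/
theorem ν_appTop [LocallyOfFinitePresentation g] (d : ℕ) (hd : ∀ x : T, g.finrank x = d) (a : Γ(T, ⊤)) :
    ν g (g.appTop a) = a ^ d := by
  refine (eq_ν g fun W hW => ?_).symm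
  rw [map_pow]
  obtain ⟨hWa, n, ⟨b⟩⟩ := hW
  let φ := g.app W
  letI : Algebra Γ(T, W) Γ(T', g ⁻¹ᵁ W) := φ.hom.toAlgebra
  have h : T'.presheaf.map (homOfLE (le_top : g ⁻¹ᵁ W ≤ ⊤)).op (g.appTop a) =
      algebraMap Γ(T, W) Γ(T', g ⁻¹ᵁ W) (T.presheaf.map (homOfLE (le_top : W ≤ ⊤)).op a) :=
    (ConcreteCategory.congr_hom (g.naturality (homOfLE (le_top : W ≤ ⊤)).op) a).symm
  rw [h]
  show _ = Algebra.norm Γ(T, W) _
  rw [Algebra.norm_algebraMap_of_basis b, Fintype.card_fin]
  rcases isEmpty_or_nonempty W with he | ⟨⟨x, hx⟩⟩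
  · haveI : Subsingleton Γ(T, W) := by
      rw [show W = ⊥ from le_bot_iff.1 fun y hy => he.false ⟨y, hy⟩]
      exact CommRingCat.subsingleton_of_isTerminal T.sheaf.isTerminalOfEmpty
    exact Subsingleton.elim _ _
  · haveI : Nonempty W := ⟨⟨x, hx⟩⟩
    haveI : Nontrivial Γ(T, W) := Scheme.component_nontrivial T W
    have h1 := finrank_eq_of_isFree g hWa (Module.Free.of_basis b) x hx
    rw [Module.finrank_eq_card_basis b, Fintype.card_fin, hd] at h1
    rw [h1]

end Degree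

variable {X Y : Scheme.{u}} (f : X ⟶ Y) [IsFinite f] [Flat f] [LocallyOfFinitePresentation f]

instance isFinite_fst (V : Y.Etale) : IsFinite (pullback.fst V.hom f) :=
  MorphismProperty.pullback_fst _ _ inferInstance

instance flat_fst (V : Y.Etale) : Flat (pullback.fst V.hom f) :=
  MorphismProperty.pullback_fst _ _ inferInstance

instance lfp_fst (V : Y.Etale) : LocallyOfFinitePresentation (pullback.fst V.hom f) :=
  MorphismProperty.pullback_fst _ _ inferInstance

/-- the transfer on units -/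
def gmNorm : (EtCoh.push f).obj (EtCoh.Gm X) ⟶ EtCoh.Gm Y :=
  ObjectProperty.homMk
    { app := fun V => AddCommGrpCat.uliftFunctor.map (AddCommGrpCat.ofHom
        (Units.map (ν (pullback.fst V.unop.hom f))).toAdditive)
      naturality := fun V V' p => by
        refine AddCommGrpCat.hom_ext (AddMonoidHom.ext fun t => gmVal_injective (W := V'.unop) ?_)
        show ν (pullback.fst V'.unop.hom f) (((EtCoh.bc f).map p.unop).left.appTop (gmVal (W := (EtCoh.bc f).obj V.unop) t)) =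
          p.unop.left.appTop (ν (pullback.fst V.unop.hom f) (gmVal (W := (EtCoh.bc f).obj V.unop) t))
        exact ν_comp (EtCoh.isPullback_bc_map f p.unop) _ }

theorem gmVal_nsmul {W : Y.Etale} (d : ℕ) (s : EtCoh.sect (EtCoh.Gm Y) W) : gmVal (d • s) = gmVal s ^ d := by
  induction d with
  | zero => rw [zero_nsmul, pow_zero]; exact EtPBC.gmVal_zero W
  | succ d ih => rw [succ_nsmul, pow_succ, ← ih]; rfl

/-- **the composite with the inclusion is multiplication by the degree** -/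
theorem gmPush_gmNorm (d : ℕ) (hd : ∀ y : Y, f.finrank y = d) : EtLim.GmPush f ≫ gmNorm f = d • 𝟙 (EtCoh.Gm Y) := by
  refine ObjectProperty.hom_ext _ (NatTrans.ext (funext fun V => AddCommGrpCat.hom_ext (AddMonoidHom.ext fun s => ?_)))
  refine gmVal_injective (W := V.unop) ?_
  have e : ((d • 𝟙 (EtCoh.Gm Y)).hom.app V).hom s = d • s := by
    clear hd
    induction d with
    | zero => rw [zero_nsmul, zero_nsmul]; rfl
    | succ d ih => rw [succ_nsmul, succ_nsmul]; exact congrArg (· + s) ih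
  rw [e, gmVal_nsmul]
  exact ν_appTop (pullback.fst V.unop.hom f) d (fun x => (Scheme.Hom.finrank_pullback_fst f V.unop.hom x).trans (hd _)) _

/-- **cohomology classes killed upstairs are killed by the degree** -/
theorem nsmul_eq_zero_of_HGmPull [PreservesFiniteLimits (EtCoh.pull f)] (d : ℕ) (hd : ∀ y : Y, f.finrank y = d)
    (n : ℕ) (ξ : EtCoh.H Y (EtCoh.Gm Y) n) (h : EtLim.HGmPull f n ξ = 0) : d • ξ = 0 := by
  have hb := (EtAcycX.HofPush_bounded f (EtCoh.Gm X) n fun q _ => EtIntegral.Rpush_succ_isZero f _ q).1 n le_rfl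
  have h0 : ((EtCoh.HF Y n).map (EtLim.GmPush f)).hom ξ = 0 :=
    hb.1 (h.trans (map_zero (EtLim.HofPush f (EtCoh.Gm X) n)).symm)
  let x : Ext (EtCoh.const Y ℤ) (EtCoh.Gm Y) n := ξ
  have h1 : x.comp (Ext.mk₀ (EtLim.GmPush f)) (add_zero n) = 0 := h0
  have h2 : x.comp (Ext.mk₀ (EtLim.GmPush f ≫ gmNorm f)) (add_zero n) = 0 := by
    rw [← Ext.mk₀_comp_mk₀, ← Ext.comp_assoc_of_second_deg_zero, h1, Ext.zero_comp]
  rw [gmPush_gmNorm f d hd] at h2
  let F : (EtCoh.Gm Y ⟶ EtCoh.Gm Y) →+ Ext (EtCoh.const Y ℤ) (EtCoh.Gm Y) n :=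
    AddMonoidHom.mk' (fun g => x.comp (Ext.mk₀ g) (add_zero n)) fun a b => by rw [Ext.mk₀_add, Ext.comp_add]
  have h3 : F (d • 𝟙 (EtCoh.Gm Y)) = 0 := h2
  rw [map_nsmul, show F (𝟙 _) = x from Ext.comp_mk₀_id x] at h3
  exact h3

theorem isAddTorsion_brCoh (d : ℕ) (h1 : 1 ≤ d) (hd : ∀ y : Y, f.finrank y = d)
    (hX : IsAddTorsion (EtCoh.H X (EtCoh.Gm X) 2)) : IsAddTorsion (EtCoh.H Y (EtCoh.Gm Y) 2) := fun ξ => by
  haveI := EtPullExact.pull_preservesFiniteLimits f
  obtain ⟨m, hm, hm'⟩ := isOfFinAddOrder_iff_nsmul_eq_zero.1 (hX (EtLim.HGmPull f 2 ξ))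
  refine isOfFinAddOrder_iff_nsmul_eq_zero.2 ⟨d * m, Nat.mul_pos h1 hm, ?_⟩
  rw [mul_nsmul', nsmul_eq_zero_of_HGmPull f d hd 2 (m • ξ) (by rw [map_nsmul, hm'])]

end Groth.Agent.NormShf
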